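import Mathlib
import Cfsg.Agent.Lib.Binary.SL2
import Cfsg.Agent.Lib.Binary.Sz
import Cfsg.Agent.Lib.Binary.U3C
import Cfsg.Agent.Lib.Suzuki.LieModel
import Cfsg.Agent.Lib.BSE14.Cor

/-!
# Binary actions of simple groups with one class of involutions
-/

set_option autoImplicit false

namespace H41.BA

open MulAction Matrix MatrixGroups

variable {G : Type*} [Group G]

theorem map_ne_top {K : Type*} [Group K] (e : G ≃* K) {H : Subgroup G} (hH : H ≠ ⊤) :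
    H.map e.toMonoidHom ≠ ⊤ := fun h => hH (by
  rw [← map_map_symm e H, h]
  exact Subgroup.map_top_of_surjective _ e.symm.surjective)

theorem card_map_equiv {K : Type*} [Group K] (e : G ≃* K) (H : Subgroup G) :
    Nat.card (H.map e.toMonoidHom) = Nat.card H :=
  Subgroup.card_map_of_injective e.injective

theorem bin_map_iff {K : Type*} [Group K] (e : G ≃* K) {H : Subgroup G} :
    Bin K (K ⧸ H.map e.toMonoidHom) ↔ Bin G (G ⧸ H) := by
  refine ⟨fun h => ?_, bin_map e⟩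
  have := bin_map e.symm h
  rwa [map_map_symm] at this

theorem sylow_map {K : Type*} [Group K] [Finite G] (e : G ≃* K) (P : Sylow 2 G) :
    ∃ Q : Sylow 2 K, (Q : Subgroup K) = (P : Subgroup G).map e.toMonoidHom :=
  ⟨P.mapSurjective (f := e.toMonoidHom) e.surjective, rfl⟩

theorem sylow_of_map {K : Type*} [Group K] [Finite K] (e : G ≃* K) {H : Subgroup G}
    (h : ∃ Q : Sylow 2 K, H.map e.toMonoidHom = Q) : ∃ P : Sylow 2 G, H = P := by
  obtain ⟨Q, hQ⟩ := h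
  obtain ⟨P, hP⟩ := sylow_map e.symm Q
  exact ⟨P, by rw [hP, ← hQ, map_map_symm]⟩

theorem center_of_map {K : Type*} [Group K] [Finite K] (e : G ≃* K) {H : Subgroup G}
    (h : ∃ Q : Sylow 2 K, H.map e.toMonoidHom =
      (Subgroup.center (Q : Subgroup K)).map (Q : Subgroup K).subtype) :
    ∃ P : Sylow 2 G, H = (Subgroup.center (P : Subgroup G)).map (P : Subgroup G).subtype := by
  obtain ⟨Q, hQ⟩ := h
  obtain ⟨P, hP⟩ := sylow_map e.symm Q
  exact ⟨P, by rw [hP, ← center_map_map, ← hQ, map_map_symm]⟩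

theorem two_zero_of_card {F : Type*} [Field F] [Fintype F] {n k : ℕ} (hn : 1 ≤ n) (hk : k ≠ 0)
    (h : Fintype.card F = (2 ^ n) ^ k) : (2 : F) = 0 :=
  H64.SL2.two_eq_zero_of_even (by
    rw [h]; exact dvd_pow (dvd_pow_self 2 (by omega)) hk)

theorem noncomm_of_even [Finite G] [IsSimpleGroup G] {H : Subgroup G} (hH : H ≠ ⊤)
    (hev : Even (Nat.card H)) : ∃ a b : G, a * b ≠ b * a := by
  by_contra hc
  push Not at hc
  have : H.Normal := ⟨fun n hn g => by rw [hc g n, mul_inv_cancel_right]; exact hn⟩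
  rcases this.eq_bot_or_eq_top with h | h
  · rw [h, Subgroup.card_bot] at hev; exact absurd hev (by decide)
  · exact hH h

theorem classify [Finite G] [IsSimpleGroup G] (hone : OneCl G) {H : Subgroup G} (hH : H ≠ ⊤)
    (hev : Even (Nat.card H)) (hB : Bin G (G ⧸ H)) :
    ((∃ (F : Type) (_ : Field F) (_ : Fintype F) (a : ℕ), 2 ≤ a ∧ Fintype.card F = 2 ^ a ∧
        Nonempty (G ≃* SL(2, F))) ∧ ∃ P : Sylow 2 G, H = P) ∨
      (Cfsg.Lie.IsoSuzuki G ∧
        ∃ P : Sylow 2 G, H = (Subgroup.center (P : Subgroup G)).map (P : Subgroup G).subtype) ∨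
      ((∃ (F : Type) (_ : Field F) (_ : Fintype F) (a : ℕ), 2 ≤ a ∧ Fintype.card F = (2 ^ a) ^ 2 ∧
        Nonempty (G ≃* Cfsg.PSU 3 F (2 ^ a))) ∧
        ∃ P : Sylow 2 G, H = (Subgroup.center (P : Subgroup G)).map (P : Subgroup G).subtype) := by
  obtain ⟨s, hs, ho⟩ := (H9.even_card_iff_exists_involution H).mp hev
  obtain ⟨M, hM⟩ := hB.exists_se hone (α := ((1 : G) : G ⧸ H)) (by rw [stab_one]; exact hH) ho
    (by rw [← mem_stabilizer_iff, stab_one]; exact hs)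
  rcases H14.BSE.isBender_of_simple_se (noncomm_of_even hH hev) hM with
    ⟨F, _, _, ⟨n, hn, hF⟩, ⟨f⟩⟩ | ⟨F, _, _, m, h1, h2, ⟨f⟩⟩ | ⟨F, _, _, n, h1, h2, ⟨f⟩⟩
  · have h2 : (2 : F) = 0 := two_zero_of_card (n := n) (k := 1) (by omega) one_ne_zero
      (by rw [pow_one, hF])
    let e := f.trans (H64.SL2.projEquiv h2).symm
    exact Or.inl ⟨⟨F, _, _, n, hn, hF, ⟨e⟩⟩, sylow_of_map e (sl2_of_bin h2 (map_ne_top e hH)
      (by rwa [card_map_equiv]) (bin_map e hB))⟩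
  · have : H14.Sz.SzF F m := ⟨h1, h2⟩
    exact Or.inr (Or.inl ⟨⟨F, _, _, m, h1, h2, ⟨f⟩⟩,
      sz_of_bin ((H14.Sz.lieModel F m).comap f) hH hev hB⟩)
  · have : H11.U.IsSq F (2 ^ n) := ⟨h2⟩
    have h3 : 3 ≤ 2 ^ n := le_trans (by norm_num) (Nat.pow_le_pow_right two_pos h1)
    exact Or.inr (Or.inr ⟨⟨F, _, _, n, h1, h2, ⟨f⟩⟩, center_of_map f
      (psu3_of_bin (two_zero_of_card (by omega) two_ne_zero h2) h3 (map_ne_top f hH)
      (by rwa [card_map_equiv]) (bin_map f hB))⟩)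

theorem comm_of_bin [Finite G] [IsSimpleGroup G] (hone : OneCl G) {H : Subgroup G} (hH : H ≠ ⊤)
    (hev : Even (Nat.card H)) (hB : Bin G (G ⧸ H)) : ∀ x ∈ H, ∀ y ∈ H, x * y = y * x := by
  intro x hx y hy
  rcases classify hone hH hev hB with ⟨⟨F, _, _, n, hn, hF, ⟨e⟩⟩, P, rfl⟩ | ⟨-, P, rfl⟩ |
    ⟨-, P, rfl⟩
  · have h2 : (2 : F) = 0 := two_zero_of_card (n := n) (k := 1) (by omega) one_ne_zero
      (by rw [pow_one, hF])
    obtain ⟨Q, hQ⟩ := sylow_map e P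
    apply e.injective
    rw [map_mul, map_mul]
    exact sl2_sylow_comm h2 Q (hQ ▸ ⟨x, hx, rfl⟩) (hQ ▸ ⟨y, hy, rfl⟩)
  · exact (mem_center_map.mp hy).2 x (mem_center_map.mp hx).1
  · exact (mem_center_map.mp hy).2 x (mem_center_map.mp hx).1

theorem bin_of_classify [Finite G] {H : Subgroup G}
    (h : ((∃ (F : Type) (_ : Field F) (_ : Fintype F) (a : ℕ), 2 ≤ a ∧ Fintype.card F = 2 ^ a ∧
        Nonempty (G ≃* SL(2, F))) ∧ ∃ P : Sylow 2 G, H = P) ∨
      (Cfsg.Lie.IsoSuzuki G ∧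
        ∃ P : Sylow 2 G, H = (Subgroup.center (P : Subgroup G)).map (P : Subgroup G).subtype) ∨
      ((∃ (F : Type) (_ : Field F) (_ : Fintype F) (a : ℕ), 2 ≤ a ∧ Fintype.card F = (2 ^ a) ^ 2 ∧
        Nonempty (G ≃* Cfsg.PSU 3 F (2 ^ a))) ∧
        ∃ P : Sylow 2 G, H = (Subgroup.center (P : Subgroup G)).map (P : Subgroup G).subtype)) :
    Bin G (G ⧸ H) := by
  rcases h with ⟨⟨F, _, _, n, hn, hF, ⟨e⟩⟩, P, rfl⟩ | ⟨⟨F, _, _, m, h1, h2, ⟨f⟩⟩, P, rfl⟩ |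
    ⟨⟨F, _, _, n, h1, h2, ⟨e⟩⟩, P, rfl⟩
  · have h2 : (2 : F) = 0 := two_zero_of_card (n := n) (k := 1) (by omega) one_ne_zero
      (by rw [pow_one, hF])
    obtain ⟨Q, hQ⟩ := sylow_map e P
    rw [← bin_map_iff e, ← hQ]
    exact sl2_bin_sylow h2 Q
  · have : H14.Sz.SzF F m := ⟨h1, h2⟩
    exact sz_bin_center ((H14.Sz.lieModel F m).comap f) P
  · have : H11.U.IsSq F (2 ^ n) := ⟨h2⟩
    obtain ⟨Q, hQ⟩ := sylow_map e P
    rw [← bin_map_iff e, center_map_map, ← hQ]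
    exact psu3_bin_center (two_zero_of_card (by omega) two_ne_zero h2) Q

end H41.BA
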