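import Mathlib
import Cfsg.Agent.Lib.Binary.PSL
import Cfsg.Agent.Lib.Binary.Main
import Cfsg.Agent.Lib.GL.Simple

/-!
# Binary actions of `PSL₂(q)`
-/

set_option autoImplicit false

namespace H41.BA

open MulAction Matrix MatrixGroups H64.SL2

theorem eq_one_of_odd {G : Type*} [Group G] (ho : Odd (Nat.card G)) {x : G} (hx : x * x = 1) :
    x = 1 := by
  have h1 : orderOf x ∣ 2 := orderOf_dvd_of_pow_eq_one (by rw [pow_two, hx])
  exact orderOf_eq_one_iff.mp (Nat.eq_one_of_dvd_coprimes (Nat.coprime_two_left.mpr ho) h1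
    (orderOf_dvd_natCard x))

variable {F : Type*} [Field F]

theorem proj_J_sq : proj (H64.SL2.comp (0 : F)) * proj (H64.SL2.comp (0 : F)) = 1 := by
  rw [← map_mul, mul_self_eq_neg_one_of_tr (tr_comp 0), proj_eq_one_iff]
  exact neg_one_mem_center

theorem proj_J_ne : proj (H64.SL2.comp (0 : F)) ≠ 1 := by
  rw [Ne, proj_eq_one_iff, mem_center_iff_entries]
  simp [H64.SL2.comp, ent]

/-- subgroups of odd order in `PSL₂(q)` -/
theorem psl_odd_cases [Finite F] (p : ℕ) [Fact p.Prime] [CharP F p] {H : Subgroup PSL(2, F)}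
    (ho : Odd (Nat.card H)) : (¬ p ∣ Nat.card H ∧ IsCyclic H) ∨
      (p ∣ Nat.card H ∧ ∃ c : PSL(2, F), ∀ h ∈ H, c⁻¹ * h * c ∈ H29.borelPSL F) := by
  classical
  have hL : CharP (AlgebraicClosure F) p := (Algebra.charP_iff F _ p).1 inferInstance
  set H' := H.map (H29.iota F) with hH'
  have e : H ≃* H' := H.equivMapOfInjective _ (H29.iota_injective F)
  have hfin : Finite H' := Finite.of_equiv _ e.toEquiv
  have ho' : Odd (Nat.card H') := by rwa [← Nat.card_congr e.toEquiv]
  have ev : ∀ {K : Type} [Group K], Even (Nat.card K) → ¬ Nonempty (H' ≃* K) :=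
    fun hK ⟨f⟩ => Nat.not_odd_iff_even.mpr hK (Nat.card_congr f.toEquiv ▸ ho')
  have d : ∀ k, Even (Nat.card (DihedralGroup k)) := fun k => by
    rw [DihedralGroup.nat_card]; exact even_two_mul k
  have a5 : Even (Nat.card (alternatingGroup (Fin 5))) := by
    rw [nat_card_alternatingGroup]; simp [Nat.factorial]; decide
  by_cases hp : p ∣ Nat.card H
  · refine Or.inr ⟨hp, ?_⟩
    obtain ⟨g, hg⟩ := exists_prime_orderOf_dvd_card' p hp
    have hg1 : (g : PSL(2, F)) ≠ 1 := by
      intro h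
      rw [show g = 1 from Subtype.ext h, orderOf_one] at hg
      exact (Fact.out : p.Prime).one_lt.ne hg
    have hgp : (g : PSL(2, F)) ^ p = 1 := by
      rw [← hg, ← Subgroup.coe_pow, pow_orderOf_eq_one, Subgroup.coe_one]
    have hg1' : H29.iota F g ≠ 1 := fun h => hg1 (H29.iota_injective F (by rw [h, map_one]))
    have hgp' : H29.iota F g ^ p = 1 := by rw [← map_pow, hgp, map_one]
    obtain ⟨x, hx⟩ := (H29.mob_pgl p).fix (H29.iota F g)
    rcases H29.dickson_wild p H' (g := H29.iota F g) ⟨g, g.2, rfl⟩ hg1' hgp' hx with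
      h | ⟨h2, k, -, hk, -, e'⟩ | ⟨-, e'⟩ | ⟨k, c, hk, -, h⟩
    · let _ : MulAction PSL(2, F) (H29.P1 (AlgebraicClosure F)) := MulAction.compHom _ (H29.iota F)
      have hM : H29.Mob p (AlgebraicClosure F) PSL(2, F) (H29.P1 (AlgebraicClosure F)) :=
        (H29.mob_pgl p).of_hom (H29.iota F) (H29.iota_injective F) fun _ _ => rfl
      have hu : 1 < hM.u x := by
        have : Nontrivial (hM.U x) := ⟨⟨⟨g, hx, hgp⟩, 1, fun h => hg1 (congrArg Subtype.val h)⟩⟩
        exact Finite.one_lt_card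
      obtain ⟨P, hP⟩ := hM.exists_sylow hu
      obtain ⟨c, rfl⟩ := exists_smul_eq PSL(2, F) (H29.unitriSylowPSL F p) P
      refine ⟨c, fun a ha => ?_⟩
      have h1 := hM.stabilizer_le_normalizer_U x (h _ ⟨a, ha, rfl⟩)
      rw [← hP] at h1
      have h3 := Sylow.smul_eq_iff_mem_normalizer.mpr h1
      rw [← H29.normalizer_unitriPSL, ← H29.coe_unitriSylowPSL p]
      refine Sylow.smul_eq_iff_mem_normalizer.mp ?_
      rw [mul_smul, mul_smul, h3, inv_smul_smul]
    · exact absurd e' (ev (d k))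
    · exact absurd e' (ev a5)
    · exfalso
      let φ := (ProjGenLinGroup.map k.subtype : PGL(2, k) →* PGL(2, AlgebraicClosure F)).comp
        ProjectiveSpecialLinearGroup.toPGL
      have hφ : Function.Injective φ :=
        (H29.pgl_map_injective k.subtype).comp ProjectiveSpecialLinearGroup.toPGL_injective
      have hm : φ (proj (H64.SL2.comp 0)) ∈ H'.map (MulAut.conj c).toMonoidHom := by
        rcases h with h | ⟨-, h⟩
        · rw [h]; exact ⟨ProjectiveSpecialLinearGroup.toPGL (proj (H64.SL2.comp 0)), rfl⟩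
        · rw [h]; exact ⟨_, rfl⟩
      have := eq_one_of_odd (G := H'.map (MulAut.conj c).toMonoidHom)
        (by rwa [card_map_equiv]) (x := ⟨_, hm⟩)
        (Subtype.ext (by change φ _ * φ _ = 1; rw [← map_mul, proj_J_sq, map_one]))
      exact proj_J_ne (hφ (by rw [map_one]; exact congrArg Subtype.val this))
  · have hp' : ¬ p ∣ Nat.card H' := by rwa [← Nat.card_congr e.toEquiv]
    rcases H29.dickson_tame p H' hp' with h | ⟨k, -, -, e'⟩ | e' | e' | e'
    · exact Or.inl ⟨hp, isCyclic_of_surjective _ e.symm.surjective⟩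
    · exact absurd e' (ev (d k))
    · exact absurd e' (ev (by rw [nat_card_alternatingGroup]; simp [Nat.factorial]; decide))
    · exact absurd e' (ev (by rw [Nat.card_perm]; simp [Nat.factorial]; decide))
    · exact absurd e' (ev a5)

theorem psl_odd [Finite F] {H : Subgroup PSL(2, F)} (ho : Odd (Nat.card H))
    (hB : Bin PSL(2, F) (PSL(2, F) ⧸ H)) :
    H = ⊥ ∨ ((2 : F) = 0 ∧ Nat.card H = 3 ∧ ∀ ω : F, ω ^ 2 + ω + 1 ≠ 0) := by
  obtain ⟨p, hp⟩ := CharP.exists F
  have hp' : Fact p.Prime := ⟨CharP.char_is_prime F p⟩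
  let _ : MulAction SL(2, F) (PSL(2, F) ⧸ H) := MulAction.compHom _ (proj (F := F))
  have hB' : Bin SL(2, F) (PSL(2, F) ⧸ H) := (bin_compHom _ proj_surjective).mpr hB
  have hZ : ∀ x : PSL(2, F) ⧸ H, (-1 : SL(2, F)) • x = x := fun x => by
    change proj (-1 : SL(2, F)) • x = x
    rw [proj_neg, map_one, one_smul]
  have st : ∀ (c : PSL(2, F)) (g : SL(2, F)), g • (c : PSL(2, F) ⧸ H) = c ↔
      c⁻¹ * proj g * c ∈ H := fun c g => mem_stab_coe H c (proj g)
  rcases psl_odd_cases p ho with ⟨hp, hc⟩ | ⟨hp, c, hc⟩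
  · by_cases hb : H = ⊥
    · exact Or.inl hb
    right
    obtain ⟨⟨h, hh⟩, hz⟩ := hc.exists_zpow_surjective
    obtain ⟨g, rfl⟩ := proj_surjective h
    have ho : orderOf (proj g) = Nat.card H := by
      rw [← Subgroup.orderOf_mk _ hh]
      exact orderOf_eq_card_of_forall_mem_zpowers hz
    have hg : tr g ^ 2 ≠ 4 := fun e => by
      have := orderOf_proj_dvd_iff.mpr (pow_char_mem_center p e)
      rw [ho] at this
      rcases (Nat.dvd_prime hp'.out).mp this with e | e
      · exact hb (Subgroup.card_eq_one.mp e)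
      · exact hp (e ▸ dvd_rfl)
    obtain ⟨h2, h1, h3⟩ := sl2_tame hB' hZ (α := ((1 : PSL(2, F)) : PSL(2, F) ⧸ H)) hg
      ((st _ _).mpr (by simpa using hh)) (fun k hk => by
        have := (st _ _).mp hk
        simp only [inv_one, one_mul, mul_one] at this
        obtain ⟨n, hn⟩ := hz ⟨_, this⟩
        have hn' : proj k = proj (g ^ n) := by
          rw [map_zpow]; exact (congrArg Subtype.val hn).symm
        rw [Subgroup.mem_centralizer_singleton_iff]
        rcases proj_eq_iff.mp hn' with rfl | rfl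
        · exact (Commute.self_zpow g n).symm
        · rw [neg_mul, mul_neg, (Commute.self_zpow g n).eq])
    refine ⟨h2, ?_, h3⟩
    rw [← ho]
    refine orderOf_eq_prime ((H29.psl_pow_three_eq_one_iff (g := g)).mpr (Or.inl ?_)) ?_
    · rw [← tr_eq_trace, h1]; ring
    · exact fun e => not_mem_center_of_tr hg (proj_eq_one_iff.mp e)
  · exfalso
    have h2 : (2 : F) ≠ 0 := two_ne_zero_of_char p (by
      rintro rfl; exact Nat.not_even_iff_odd.mpr ho (even_iff_two_dvd.mpr hp))
    obtain ⟨g, hg⟩ := exists_prime_orderOf_dvd_card' p hp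
    obtain ⟨u, hu⟩ := proj_surjective (c⁻¹ * (g : PSL(2, F)) * c)
    have := sl2_wild h2 hB' hZ (α := ((c⁻¹ : PSL(2, F)) : PSL(2, F) ⧸ H)) (fun k hk => by
      have := hc _ ((st _ _).mp hk)
      rw [← H29.mk_mem_borelPSL]
      convert this using 1
      change proj k = _
      group) (fun k hk e => by
      have h1 := (st _ _).mp hk
      have h3 := eq_one_of_odd ho (x := ⟨_, h1⟩) (Subtype.ext (by
        change c⁻¹⁻¹ * proj k * c⁻¹ * (c⁻¹⁻¹ * proj k * c⁻¹) = 1
        have : proj k * proj k = 1 := by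
          rw [← map_mul, mul_self_eq_neg_one_of_tr e, proj_neg, map_one]
        calc _ = c * (proj k * proj k) * c⁻¹ := by group
          _ = 1 := by rw [this]; group))
      have h4 : proj k = 1 := by
        have : c⁻¹⁻¹ * proj k * c⁻¹ = 1 := congrArg Subtype.val h3
        calc proj k = c⁻¹ * (c⁻¹⁻¹ * proj k * c⁻¹) * c := by group
          _ = 1 := by rw [this]; group
      have := tr_sq_eq_four_of_mem_center (proj_eq_one_iff.mp h4)
      rw [e] at this
      exact h2 (pow_eq_zero_iff two_ne_zero |>.mp (by linear_combination -this)))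
      (u := u) ((st _ _).mpr (by rw [hu]; convert g.2 using 1; group))
    rw [← proj_eq_one_iff, hu] at this
    have h1 : g = 1 := Subtype.ext (by
      calc (g : PSL(2, F)) = c * (c⁻¹ * g * c) * c⁻¹ := by group
        _ = 1 := by rw [this]; group)
    rw [h1, orderOf_one] at hg
    exact hp'.out.one_lt.ne hg

theorem psl_inv_conj [Finite F] (h2 : (2 : F) ≠ 0) {s : PSL(2, F)} (hs : orderOf s = 2) :
    IsConj (proj (H64.SL2.comp (0 : F))) s := by
  obtain ⟨g, rfl⟩ := proj_surjective s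
  have h1 : g ∉ Subgroup.center SL(2, F) := fun e =>
    H9.ne_one_of_orderOf_two hs (proj_eq_one_iff.mpr e)
  have h3 := (mem_center_or_tr_eq_zero_of_sq (g := g) (by
    rw [← proj_eq_one_iff, map_mul]; exact H9.mul_self_of_orderOf_two hs)).resolve_left h1
  have := isConj_comp (g := g) (by
    rw [h3]; exact fun e => h2 (pow_eq_zero_iff two_ne_zero |>.mp (by linear_combination -e)))
  rw [h3] at this
  exact proj.map_isConj this

theorem psl_even [Fintype F] (h2 : (2 : F) ≠ 0) (h6 : 6 ≤ Fintype.card F) {H : Subgroup PSL(2, F)}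
    (hH : H ≠ ⊤) (hev : Even (Nat.card H)) : ¬ Bin PSL(2, F) (PSL(2, F) ⧸ H) := fun hB => by
  classical
  have hs : IsSimpleGroup PSL(2, F) := H10.isSimpleGroup_PSL_fin 2 le_rfl (fun _ => by
    rw [Nat.card_eq_fintype_card]; omega)
  have hone : OneCl PSL(2, F) := fun s t hs ht =>
    (psl_inv_conj h2 hs).symm.trans (psl_inv_conj h2 ht)
  have hc := comm_of_bin hone hH hev hB
  obtain ⟨s, hsH, ho⟩ := (H9.even_card_iff_exists_involution H).mp hev
  obtain ⟨k, rfl⟩ := isConj_iff.mp (psl_inv_conj h2 ho)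
  have key : ∀ x y : F, ∀ h : x * -x - y * y = 1, k * proj (mk x y y (-x) h) * k⁻¹ ∈ H := by
    intro x y h
    have ht : tr (mk x y y (-x) h) = 0 := by simp [tr, ent]
    have h1 : orderOf (proj (mk x y y (-x) h)) = 2 :=
      H9.orderOf_eq_two_of_mul_self (fun e => by
        have := tr_sq_eq_four_of_mem_center (proj_eq_one_iff.mp e)
        rw [ht] at this
        exact h2 (pow_eq_zero_iff two_ne_zero |>.mp (by linear_combination -this)))
        (by rw [← map_mul, mul_self_eq_neg_one_of_tr ht, proj_neg, map_one])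
    have h3 : proj (H64.SL2.comp (0 : F)) * proj (mk x y y (-x) h) =
        proj (mk x y y (-x) h) * proj (H64.SL2.comp (0 : F)) := by
      rw [← map_mul, ← map_mul, proj_eq_iff]
      right
      simp [H64.SL2.comp, ent]
    have := hB.fix_of_commute hone (h := k * proj (mk x y y (-x) h) * k⁻¹) ho
      (((MulAut.conj k).orderOf_eq _).trans h1) (by
        change _ * _ = _ * _
        calc _ = k * (proj (H64.SL2.comp (0 : F)) * proj (mk x y y (-x) h)) * k⁻¹ := by group
          _ = _ := by rw [h3]; group) (x := ((1 : PSL(2, F)) : PSL(2, F) ⧸ H))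
      (by rw [← mem_stabilizer_iff, stab_one]; exact hsH)
    rwa [← mem_stabilizer_iff, stab_one] at this
  obtain ⟨a, b, hab⟩ := H29.exists_sq_add_sq h2 (-1 : F)
  obtain ⟨u, hu⟩ := IsCyclic.exists_ofOrder_eq_natCard (α := Fˣ)
  rw [Nat.card_units, Nat.card_eq_fintype_card] at hu
  have hu4 : (u : F) ^ 4 ≠ 1 := fun e =>
    pow_ne_one_of_lt_orderOf (x := u) four_ne_zero (by omega) (Units.ext e)
  have hu1 : 1 + (u : F) ^ 2 ≠ 0 := fun e => hu4 (by linear_combination ((u : F) ^ 2 - 1) * e)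
  have hu2 : 1 - (u : F) ^ 2 ≠ 0 := fun e => hu4 (by linear_combination (-1 - (u : F) ^ 2) * e)
  obtain ⟨c, d, hcd, hc0, hd0⟩ : ∃ c d : F, c ^ 2 + d ^ 2 = 1 ∧ c ≠ 0 ∧ d ≠ 0 :=
    ⟨(1 - u ^ 2) / (1 + u ^ 2), 2 * u / (1 + u ^ 2), by field_simp; ring, div_ne_zero hu2 hu1,
      div_ne_zero (mul_ne_zero h2 u.ne_zero) hu1⟩
  have e := hc _ (key a b (by linear_combination -hab)) _ (key (a * c + b * d) (b * c - a * d)
    (by linear_combination -hab - (a ^ 2 + b ^ 2) * hcd))
  rw [conj_mul, conj_mul, mul_left_inj, mul_right_inj, ← map_mul, ← map_mul, proj_eq_iff] at e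
  simp only [ent] at e
  rcases e with e | e
  · exact mul_ne_zero h2 hd0 (by linear_combination e.2.1 + 2 * d * hab)
  · exact mul_ne_zero h2 hc0 (by linear_combination -e.1 + 2 * c * hab)

theorem no_root_iff [Fintype F] {a : ℕ} (h : Fintype.card F = 2 ^ a) (h2 : (2 : F) = 0) :
    (∀ ω : F, ω ^ 2 + ω + 1 ≠ 0) ↔ Odd a := by
  classical
  have hc : Nat.card Fˣ = 2 ^ a - 1 := by rw [Nat.card_units, Nat.card_eq_fintype_card, h]
  have h4 : ∀ k : ℕ, 2 ^ (2 * k) % 3 = 1 := fun k => by rw [pow_mul, Nat.pow_mod]; simp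
  have hpos : 0 < 2 ^ a := by positivity
  constructor
  · intro hω
    by_contra ho
    obtain ⟨k, rfl⟩ := Nat.not_odd_iff_even.mp ho
    have : Fact (Nat.Prime 3) := ⟨Nat.prime_three⟩
    obtain ⟨u, hu⟩ := exists_prime_orderOf_dvd_card' (G := Fˣ) 3 (by
      have := h4 k
      rw [hc, ← two_mul]; omega)
    have h3 : (u : F) ^ 3 = 1 := by
      have := pow_orderOf_eq_one u
      rw [hu] at this
      exact congrArg Units.val this
    have h1 : (u : F) - 1 ≠ 0 := fun e => by
      rw [show u = 1 from Units.ext (sub_eq_zero.mp e), orderOf_one] at hu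
      exact absurd hu (by decide)
    exact hω u (mul_left_cancel₀ h1 (by linear_combination h3))
  · rintro ⟨k, rfl⟩ ω hω
    have h0 : ω ≠ 0 := fun e => by rw [e] at hω; simp at hω
    have : Fact (Nat.Prime 3) := ⟨Nat.prime_three⟩
    have h3 : orderOf (Units.mk0 ω h0) = 3 := orderOf_eq_prime (Units.ext (by
      change ω ^ 3 = 1; linear_combination (ω - 1) * hω)) (fun e => by
        have : ω = 1 := congrArg Units.val e
        rw [this] at hω
        exact one_ne_zero (α := F) (by linear_combination hω - h2))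
    have := orderOf_dvd_natCard (Units.mk0 ω h0)
    have h5 := h4 k
    rw [h3, hc, pow_succ] at this
    omega

end H41.BA
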